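import Cfsg.Agent.Lib.J2Mult.Defs

/-!
Kernel checks for the reflection group of the icosian lattice.
-/

set_option autoImplicit false
set_option maxRecDepth 100000
set_option maxHeartbeats 4000000
set_option Elab.async false

namespace Cfsg.Agent.J2Mult.Checks

open Cfsg.Agent.IcoLeech Cfsg.Agent.CentralTwo

theorem conj_eq : T.conjOk = true := by decide +kernel

theorem eqs_eq : T.eqsOk = true := by decide +kernel

end Cfsg.Agent.J2Mult.Checks
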