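import Cfsg.Agent.Lib.J2Mult.Defs

/-!
Kernel checks for the reflection group of the icosian lattice.
-/

set_option autoImplicit false
set_option maxRecDepth 100000
set_option maxHeartbeats 4000000
set_option Elab.async false

namespace Cfsg.Agent.J2Mult.Checks

open Cfsg.Agent.IcoLeech Cfsg.Agent.CentralTwo

theorem rel0 : relOk 0 = true := by decide +kernel

theorem rel1 : relOk 1 = true := by decide +kernel

theorem rel2 : relOk 2 = true := by decide +kernel

theorem rel3 : relOk 3 = true := by decide +kernel

theorem rel4 : relOk 4 = true := by decide +kernel

theorem rel5 : relOk 5 = true := by decide +kernel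

theorem rel6 : relOk 6 = true := by decide +kernel

theorem rel7 : relOk 7 = true := by decide +kernel

end Cfsg.Agent.J2Mult.Checks
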