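import Cfsg.Agent.Lib.J2Mult.ChecksTable
import Cfsg.Agent.Lib.J2Mult.ChecksEqs
import Cfsg.Agent.Lib.J2Mult.ChecksRel
import Cfsg.Agent.Lib.J2Mult.ChecksBase
import Cfsg.Agent.Lib.J2Mult.ChecksOdd

/-!
The certificate is valid.
-/

set_option autoImplicit false

namespace Cfsg.Agent.J2Mult.Checks

open Cfsg.Agent.CentralTwo

theorem cert_ok : T.Ok :=
  ⟨fun m hm => List.all_eq_true.1 level_eq m (List.mem_range.2 hm), block_eq, conj_eq, eqs_eq, res_eq⟩

end Cfsg.Agent.J2Mult.Checks
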