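import Cfsg.Agent.Lib.J2Mult.Defs

/-!
Kernel checks for the reflection group of the icosian lattice.
-/

set_option autoImplicit false
set_option maxRecDepth 100000
set_option maxHeartbeats 4000000
set_option Elab.async false

namespace Cfsg.Agent.J2Mult.Checks

open Cfsg.Agent.IcoLeech Cfsg.Agent.CentralTwo

theorem level_eq : (List.range 8).all T.levelOk = true := by decide +kernel

theorem block_eq : T.blockOk = true := by decide +kernel

theorem res_eq : T.resOk = true := by decide +kernel

theorem freeOk_eq : freeOk = true := by decide +kernel

theorem neg_ok : weq (nfw 8 7) negWord = true := by decide +kernel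

end Cfsg.Agent.J2Mult.Checks
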