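import Cfsg.Agent.Lib.IcoLeech.Gens
import Cfsg.Agent.Lib.CentralTwo.Basic

/-!
Reflection words evaluated with numerals at every step.
-/

set_option autoImplicit false

namespace Cfsg.Agent.J2Mult.Eval

open Cfsg.Agent.IcoLeech

/-- Apply a function to an integer after evaluating it. -/
def intF {α : Type} (x : ℤ) (k : ℤ → α) : α :=
  match x with
  | .ofNat n => CentralTwo.natF n fun m => k (.ofNat m)
  | .negSucc n => CentralTwo.natF n fun m => k (.negSucc m)

theorem intF_eq {α : Type} (x : ℤ) (k : ℤ → α) : intF x k = k x := by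
  cases x <;> simp only [intF, CentralTwo.natF_eq]

/-- Apply a function to an icosian after evaluating it. -/
def icoF {α : Type} (x : Ico) (k : Ico → α) : α :=
  match x with
  | ⟨a, b, c, d, a', b', c', d'⟩ =>
    intF a fun a => intF b fun b => intF c fun c => intF d fun d =>
      intF a' fun a' => intF b' fun b' => intF c' fun c' => intF d' fun d' => k ⟨a, b, c, d, a', b', c', d'⟩

theorem icoF_eq {α : Type} (x : Ico) (k : Ico → α) : icoF x k = k x := by
  cases x; simp only [icoF, intF_eq]

/-- Apply a function to a vector after evaluating it. -/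
def vecF {α : Type} (v : V3) (k : V3 → α) : α :=
  match v with
  | ⟨x, y, z⟩ => icoF x fun x => icoF y fun y => icoF z fun z => k ⟨x, y, z⟩

theorem vecF_eq {α : Type} (v : V3) (k : V3 → α) : vecF v k = k v := by
  cases v; simp only [vecF, icoF_eq]

/-- The reflection with evaluated intermediate values. -/
def reflF (r v : V3) : V3 :=
  vecF v fun v => vecF r fun r => icoF (Ico.half (V3.qip v r)) fun a =>
    vecF ⟨Ico.sub v.x (Ico.mul a r.x), Ico.sub v.y (Ico.mul a r.y), Ico.sub v.z (Ico.mul a r.z)⟩ id

theorem reflF_eq (r v : V3) : reflF r v = V3.refl r v := by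
  simp only [reflF, vecF_eq, icoF_eq, id]
  rfl

/-- The image of a vector under a word, evaluated step by step. -/
def appF : List ℕ → V3 → V3
  | [], v => v
  | k :: w, v => vecF (appF w v) fun u => reflF (G k) u

theorem appF_eq : ∀ (w : List ℕ) (v : V3), appF w v = wapp w v
  | [], _ => rfl
  | k :: w, v => by
    simp only [appF, vecF_eq, reflF_eq, appF_eq w v]
    rfl

end Cfsg.Agent.J2Mult.Eval
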