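import Cfsg.Agent.Lib.J2Mult.Data
import Cfsg.Agent.Lib.IcoLeech.Perm
import Cfsg.Agent.Lib.J2Mult.Eval

/-!
Definitions of the checks of the certificate for the reflection group of the icosian lattice.
-/

set_option autoImplicit false
set_option maxRecDepth 100000
set_option maxHeartbeats 4000000

namespace Cfsg.Agent.J2Mult.Checks

open Cfsg.Agent.IcoLeech Cfsg.Agent.CentralTwo

/-- The certificate. -/
abbrev T : Cert := Data.cert

/-- A generator as a word. -/
def pw (k : ℕ) : List ℕ := Data.pcw.getD k []

/-- A conjugating word. -/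
def gw (u : ℕ) : List ℕ := Data.gw.getD u []

/-- A normal form as a word. -/
def nfw : ℕ → ℕ → List ℕ
  | 0, _ => []
  | n + 1, e => if 2 ^ n ≤ e then pw n ++ nfw n (e - 2 ^ n) else nfw n e

/-- The images of three lines. -/
def key (w : List ℕ) : ℕ := wact w 0 * 262144 + wact w 2 * 512 + wact w 8

/-- Two words act the same way on three lines and on the first base vector. -/
def weq (u w : List ℕ) : Bool := Nat.beq (key u) (key w) && Eval.appF u E0 == Eval.appF w E0

/-- Only the normal form of the negation fixes the three lines. -/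
def freeOk : Bool :=
  (List.range 256).all fun e => Nat.beq e 0 || Nat.beq e 7 || !Nat.beq (key (nfw 8 e)) (key [])

/-- The relations of one level. -/
def relOk (j : ℕ) : Bool :=
  (List.range (j + 1)).all fun k => weq (pw k ++ pw j) (nfw 8 (T.fullTgt k j))

/-- The basic conjugations. -/
def baseOk : Bool :=
  (List.range T.conj.length).all fun i =>
    (T.par.getD i (0, 0, 0)).1 != 0 ||
      weq (gw (T.cp i).1 ++ nfw 8 (T.cp i).2.1) (nfw 8 (T.cp i).2.2 ++ gw (T.cp i).1)

/-- A word repeated. -/
def rep (w : List ℕ) (n : ℕ) : List ℕ := (List.replicate n w).flatten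

/-- The inversion at the prime three. -/
def r3w : List ℕ := [0]

/-- The first element of order three. -/
def x3 : List ℕ := [4, 0]

/-- The second element of order three. -/
def y3 : List ℕ := [1, 4, 3, 0, 3, 4, 1, 0]

/-- Their commutator. -/
def c3 : List ℕ := x3 ++ y3 ++ rep x3 2 ++ rep y3 2

/-- The reflection at the prime five. -/
def r5w : List ℕ := [0]

/-- The first element of order five. -/
def x5 : List ℕ := [4, 1, 4, 3, 2, 4, 3, 1, 4, 0]

/-- The second element of order five. -/
def y5 : List ℕ := [4, 2, 4, 0]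

/-- The facts at the prime three. -/
def threeOk : Bool :=
  weq (rep x3 3) [] && weq (rep y3 3) [] && weq (rep c3 3) [] && !Nat.beq (key c3) (key []) &&
    weq (c3 ++ x3) (x3 ++ c3) && weq (c3 ++ y3) (y3 ++ c3) &&
    weq (r3w ++ r3w) [] && weq (r3w ++ x3 ++ r3w) (rep x3 2) && weq (r3w ++ y3 ++ r3w) (rep y3 2) &&
    ((List.range 27).all fun u => (List.range u).all fun w =>
      !Nat.beq (key (rep x3 (u / 9) ++ rep y3 (u / 3 % 3) ++ rep c3 (u % 3)))
        (key (rep x3 (w / 9) ++ rep y3 (w / 3 % 3) ++ rep c3 (w % 3))))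

/-- The facts at the prime five. -/
def fiveOk : Bool :=
  weq (rep x5 5) [] && weq (rep y5 5) [] && weq (x5 ++ y5) (y5 ++ x5) &&
    weq (r5w ++ r5w) [] && weq (r5w ++ x5 ++ r5w) x5 && weq (r5w ++ y5 ++ r5w) (rep y5 4) &&
    ((List.range 25).all fun u => (List.range u).all fun w =>
      !Nat.beq (key (rep x5 (u / 5) ++ rep y5 (u % 5))) (key (rep x5 (w / 5) ++ rep y5 (w % 5))))

/-- The first element of the pair with commutator the negation. -/
def commA : List ℕ := [2, 4, 1, 3, 0, 4, 2, 3, 1]

/-- The second element of the pair. -/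
def commB : List ℕ := [4, 1, 3, 0, 4, 1, 3, 4, 1, 3, 4, 1, 3, 0]

end Cfsg.Agent.J2Mult.Checks
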