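import Cfsg.Agent.Lib.J2Mult.Checks
import Cfsg.Agent.Lib.CentralTwo.Split
import Cfsg.Agent.Lib.CentralTwo.RankTwo
import Cfsg.Agent.SimpleFacts.SchurFromCover

/-!
The reflection group of the icosian lattice has trivial multiplier; the multiplier of `J2` has order two.
-/

set_option autoImplicit false
set_option maxRecDepth 100000
set_option maxHeartbeats 1000000
set_option linter.style.haveILetI false

namespace Cfsg.Agent.J2Mult.Main

open Cfsg.Spor Cfsg.Agent.IcoLeech Cfsg.Agent.CentralTwo Cfsg.Agent.J2Mult.Checks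
open Cfsg.Agent.Transfer.SplitLifts
open scoped commutatorElement

theorem wel_nil : wel [] = 1 := rfl

theorem wel_rep (w : List ℕ) : ∀ n : ℕ, wel (Checks.rep w n) = wel w ^ n
  | 0 => by rw [Checks.rep, List.replicate_zero, pow_zero]; exact wel_nil
  | n + 1 => by
    rw [Checks.rep, List.replicate_succ, List.flatten_cons, wel_append, pow_succ']
    congr 1
    exact wel_rep w n

theorem neg_move (g : twoJ2) :
    ((negI * g : twoJ2) : Equiv.Perm icoLeech) e0 ≠ (g : Equiv.Perm icoLeech) e0 := by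
  rw [← Subgroup.mem_center_iff.1 negI_central g, Subgroup.coe_mul, Equiv.Perm.mul_apply]
  intro h
  have e := negI_apply e0
  rw [(g : Equiv.Perm icoLeech).injective h] at e
  have e' := congrFun e 0
  simp only [Pi.neg_apply] at e'
  rw [eq_neg_iff_add_eq_zero, ← two_mul, mul_eq_zero] at e'
  rcases e' with e' | e'
  · exact Ico.two_ne e'
  · rw [show ((e0 : icoLeech) : Fin 3 → Quaternion ℝ) 0 = Ico.toH two' from rfl, toH_two'] at e'
    exact Ico.two_ne e'

theorem key_split {u w : List ℕ} (h : Nat.beq (Checks.key u) (Checks.key w) = true) :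
    wact u 0 = wact w 0 ∧ wact u 2 = wact w 2 ∧ wact u 8 = wact w 8 := by
  have h' := Nat.eq_of_beq_eq_true h
  have b : ∀ (v : List ℕ) {j : ℕ}, j < 315 → wact v j < 512 := fun v j hj =>
    (wact_lt v hj).trans (by norm_num)
  have := b u (show 2 < 315 by norm_num)
  have := b u (show 8 < 315 by norm_num)
  have := b w (show 2 < 315 by norm_num)
  have := b w (show 8 < 315 by norm_num)
  simp only [Checks.key] at h'
  omega

theorem wJ_eq_of_key {u w : List ℕ} (h : Nat.beq (Checks.key u) (Checks.key w) = true) : wJ u = wJ w := by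
  obtain ⟨h0, h2, h8⟩ := key_split h
  have hs : ∀ j < 315, wact u j = wact w j → ((wJ w)⁻¹ * wJ u) • cset j = cset j := fun j hj e => by
    rw [mul_smul, smul_cset u hj, e, ← smul_cset w hj, inv_smul_smul]
  obtain ⟨i, hi⟩ := cel_bijective.2 ⟨(wJ w)⁻¹ * wJ u, mem_CJ_iff.2 (hs 0 (by norm_num) h0)⟩
  obtain ⟨i₀, hi₀⟩ := cel_bijective.2 1
  have e : wJ (cword i) = (wJ w)⁻¹ * wJ u := congrArg Subtype.val hi
  have e₀ : wJ (cword i₀) = 1 := congrArg Subtype.val hi₀
  have : i = i₀ := ckey_eq (by rw [e, e₀, one_smul, hs 2 (by norm_num) h2])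
    (by rw [e, e₀, one_smul, hs 8 (by norm_num) h8])
  rw [this, e₀] at e
  exact (inv_mul_eq_one.1 e.symm).symm

theorem key_of_eq {u w : List ℕ} (h : wJ u = wJ w) : Nat.beq (Checks.key u) (Checks.key w) = true := by
  have e : ∀ j < 315, wact u j = wact w j := fun j hj =>
    cset_injective (wact_lt u hj) (wact_lt w hj) (by rw [← smul_cset u hj, ← smul_cset w hj, h])
  rw [Checks.key, Checks.key, e 0 (by norm_num), e 2 (by norm_num), e 8 (by norm_num)]
  exact Nat.beq_refl _

theorem wel_eq {u w : List ℕ} (h : weq u w = true) : wel u = wel w := by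
  simp only [weq, Bool.and_eq_true, beq_iff_eq, Eval.appF_eq] at h
  obtain ⟨hk, he⟩ := h
  have hJ := wJ_eq_of_key hk
  rw [wJ, wJ] at hJ
  have hz : wel u * (wel w)⁻¹ ∈ Subgroup.center twoJ2 := by
    have h2 : QuotientGroup.mk' (Subgroup.center twoJ2) (wel u * (wel w)⁻¹) = 1 := by
      rw [map_mul, map_inv, hJ, mul_inv_cancel]
    exact (QuotientGroup.eq_one_iff _).1 h2
  rcases center_cases hz with h1 | h1
  · exact mul_inv_eq_one.1 h1
  · exfalso
    rw [mul_inv_eq_iff_eq_mul] at h1
    refine neg_move (wel w) ?_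
    rw [← h1]
    refine vec_injective ?_
    rw [vec_wel, vec_wel, vec_e0]
    exact he

/-- The generators. -/
noncomputable def aG (k : ℕ) : twoJ2 := wel (pw k)

/-- The conjugating elements. -/
noncomputable def gG (u : ℕ) : twoJ2 := wel (gw u)

theorem nform_eq : ∀ n e, nform aG n e = wel (nfw n e)
  | 0, _ => wel_nil.symm
  | n + 1, e => by
    rw [nform, nfw]
    split_ifs
    · rw [wel_append, nform_eq n]; rfl
    · exact nform_eq n e

theorem free {e : ℕ} (he : e < 256) (h : nform aG 8 e = 1) : e = 0 := by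
  have hf := freeOk_eq
  simp only [freeOk, List.all_eq_true, List.mem_range, Bool.or_eq_true, Bool.not_eq_true'] at hf
  rw [nform_eq, ← wel_nil] at h
  rcases hf e he with (h0 | h7) | hk
  · exact Nat.eq_of_beq_eq_true h0
  · exfalso
    rw [Nat.eq_of_beq_eq_true h7, wel_eq neg_ok] at h
    exact negI_ne_one h
  · exfalso
    rw [key_of_eq (show wJ (nfw 8 e) = wJ [] by rw [wJ, wJ, h])] at hk
    exact Bool.noConfusion hk

theorem model_rel : ∀ j < T.n, ∀ k ≤ j, aG k * aG j = nform aG T.n (T.fullTgt k j) := by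
  intro j hj k hk
  have hj' : j < 8 := hj
  have h : relOk j = true := by
    interval_cases j
    exacts [rel0, rel1, rel2, rel3, rel4, rel5, rel6, rel7]
  simp only [relOk, List.all_eq_true, List.mem_range] at h
  show aG k * aG j = nform aG 8 (T.fullTgt k j)
  rw [nform_eq]
  exact (wel_append _ _).symm.trans (wel_eq (h k (by omega)))

theorem model_inj : ∀ x < 2 ^ T.n, ∀ y < 2 ^ T.n, nform aG T.n x = nform aG T.n y → x = y := by
  have S : Setting T (fun _ : PUnit.{1} => (1 : twoJ2)) aG (fun _ => PUnit.unit) :=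
    ⟨fun _ => rfl, fun _ _ => (one_mul 1).symm, fun _ h => (one_mul h).trans (mul_one h).symm,
      fun j hj k hk => by rw [one_mul]; exact model_rel j hj k hk⟩
  have hn : T.n = 8 := rfl
  suffices key : ∀ m ≤ 8, ∀ x < 2 ^ m, ∀ y < 2 ^ m, nform aG m x = nform aG m y → x = y by
    exact key 8 le_rfl
  intro m
  induction m with
  | zero => intro _ x hx y hy _; rw [pow_zero] at hx hy; omega
  | succ m ih =>
    intro hm x hx y hy hxy
    have hL := S.table cert_ok m (by omega)
    have mul' : ∀ p < 2 ^ m, ∀ q < 2 ^ m, ∃ r < 2 ^ m, nform aG m p * nform aG m q = nform aG m r :=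
      fun p hp q hq => by
        obtain ⟨h1, h2⟩ := S.mulNF_spec hL m le_rfl p hp q hq
        exact ⟨_, h1, by rw [h2, one_mul]⟩
    have hinv : ∀ p < 2 ^ m, ∃ r < 2 ^ m, (nform aG m p)⁻¹ = nform aG m r := by
      intro p hp
      haveI := finite_twoJ2
      rw [← zpow_neg_one]
      obtain ⟨n, hn⟩ := (mem_powers_iff_mem_zpowers (x := nform aG m p)).2
        (Subgroup.zpow_mem_zpowers (nform aG m p) (-1))
      rw [← hn]
      clear hn
      induction n with
      | zero => exact ⟨0, Nat.two_pow_pos _, (pow_zero _).trans (nform_zero aG _).symm⟩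
      | succ n ihn =>
        obtain ⟨r, hr, e⟩ := ihn
        obtain ⟨r', hr', e'⟩ := mul' r hr p hp
        exact ⟨r', hr', (pow_succ _ n).trans ((congrArg (· * nform aG m p) e).trans e')⟩
    have hmixed : ∀ p < 2 ^ m, ∀ q < 2 ^ m, nform aG m p ≠ aG m * nform aG m q := by
      intro p hp q hq e
      obtain ⟨p', hp', ep⟩ := hinv p hp
      obtain ⟨r, hr, er⟩ := mul' q hq p' hp'
      have h1 : nform aG 8 (2 ^ m + r) = 1 := by
        rw [nform_mono aG (by omega : m + 1 ≤ 8) (by rw [pow_succ]; omega), nform_high, ← er, ← ep,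
          ← mul_assoc, ← e, mul_inv_cancel]
      have hlt : 2 ^ m + r < 256 := by
        have h2 : (2 : ℕ) ^ (m + 1) ≤ 2 ^ 8 := Nat.pow_le_pow_right (by norm_num) hm
        rw [pow_succ] at h2
        omega
      have := free hlt h1
      have := Nat.two_pow_pos m
      omega
    rw [pow_succ] at hx hy
    rcases Nat.lt_or_ge x (2 ^ m) with hx' | hx' <;> rcases Nat.lt_or_ge y (2 ^ m) with hy' | hy'
    · rw [nform_low aG hx', nform_low aG hy'] at hxy
      exact ih (by omega) x hx' y hy' hxy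
    · obtain ⟨q, rfl⟩ := Nat.exists_eq_add_of_le hy'
      rw [nform_low aG hx', nform_high] at hxy
      exact absurd hxy (hmixed x hx' q (by omega))
    · obtain ⟨q, rfl⟩ := Nat.exists_eq_add_of_le hx'
      rw [nform_low aG hy', nform_high] at hxy
      exact absurd hxy.symm (hmixed y hy' q (by omega))
    · obtain ⟨p, rfl⟩ := Nat.exists_eq_add_of_le hx'
      obtain ⟨q, rfl⟩ := Nat.exists_eq_add_of_le hy'
      rw [nform_high, nform_high] at hxy
      rw [ih (by omega) p (by omega) q (by omega) (mul_left_cancel hxy)]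

theorem model : T.Model aG gG where
  rel := model_rel
  inj := model_inj
  base i hi h0 := by
    have h := baseOk_eq
    simp only [baseOk, List.all_eq_true, List.mem_range, Bool.or_eq_true, bne_iff_ne, ne_eq] at h
    show gG _ * nform aG 8 _ = nform aG 8 _ * gG _
    rw [nform_eq, nform_eq, gG, ← wel_append, ← wel_append]
    exact wel_eq ((h i hi).resolve_left fun hne => hne h0)

theorem fact_of_eq {p k r n : ℕ} (hp : p.Prime) (h : n = p ^ k * r) (hr : ¬ p ∣ r) :
    n.factorization p = k := by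
  subst h
  have hr0 : r ≠ 0 := by rintro rfl; exact hr (dvd_zero p)
  rw [Nat.factorization_mul (pow_ne_zero _ hp.ne_zero) hr0, Finsupp.add_apply,
    hp.factorization_pow, Finsupp.single_eq_same, Nat.factorization_eq_zero_of_not_dvd hr, add_zero]

/-- The multiplier of the reflection group is trivial. -/
theorem multiplier_twoJ2 : Cfsg.HasCyclicSchurMultiplier twoJ2 1 := by
  haveI := finite_twoJ2
  refine trivial_of_criteria
    (fun Γ _ _ σ hc hσ hex P => two_trivial cert_ok model
      (by rw [card_twoJ2]; exact fact_of_eq Nat.prime_two (k := 8) (r := 4725) (by norm_num) (by norm_num))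
      σ hc hσ hex P)
    fun p hp h2 hd Γ _ _ σ hc hσ P => ?_
  rw [card_twoJ2] at hd
  have hp' : p = 3 ∨ p = 5 ∨ p = 7 := by
    have h : p ∣ 2 ^ 8 * (3 ^ 3 * (5 ^ 2 * 7)) := by norm_num; exact hd
    rcases hp.out.dvd_mul.1 h with h | h
    · exact absurd ((Nat.prime_dvd_prime_iff_eq hp.out Nat.prime_two).1 (hp.out.dvd_of_dvd_pow h)) h2
    rcases hp.out.dvd_mul.1 h with h | h
    · exact Or.inl ((Nat.prime_dvd_prime_iff_eq hp.out Nat.prime_three).1 (hp.out.dvd_of_dvd_pow h))
    rcases hp.out.dvd_mul.1 h with h | h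
    · exact Or.inr (Or.inl ((Nat.prime_dvd_prime_iff_eq hp.out (by norm_num)).1 (hp.out.dvd_of_dvd_pow h)))
    · exact Or.inr (Or.inr ((Nat.prime_dvd_prime_iff_eq hp.out (by norm_num)).1 h))
  rcases hp' with rfl | rfl | rfl
  · have h := threeOk_eq
    simp only [threeOk, Bool.and_eq_true, List.all_eq_true, List.mem_range, Bool.not_eq_true'] at h
    obtain ⟨⟨⟨⟨⟨⟨⟨⟨⟨h1, h2'⟩, h3⟩, h4⟩, h5⟩, h6⟩, h7⟩, h8⟩, h9⟩, h10⟩ := h
    have hx : wel x3 ^ 3 = 1 := by rw [← wel_rep, wel_eq h1, wel_nil]
    have hy : wel y3 ^ 3 = 1 := by rw [← wel_rep, wel_eq h2', wel_nil]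
    have hinv : ∀ {g : twoJ2}, g ^ 3 = 1 → g⁻¹ = g ^ 2 := fun hg =>
      inv_eq_of_mul_eq_one_right (by rw [← pow_succ']; exact hg)
    have hc3 : ⁅wel x3, wel y3⁆ = wel c3 := by
      rw [commutatorElement_def, hinv hx, hinv hy, ← wel_rep, ← wel_rep, ← wel_append, ← wel_append,
        ← wel_append]
      rfl
    have hr : (wel r3w)⁻¹ = wel r3w :=
      inv_eq_of_mul_eq_one_right (by rw [← wel_append, wel_eq h7, wel_nil])
    refine three_criterion (x := wel x3) (y := wel y3) (r := wel r3w) hc hσ hx hy ?_ ?_ ?_ ?_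
      (N := 3) (e := 3) ?_ (by norm_num) ?_ (by norm_num)
      (by rw [card_twoJ2]; exact fact_of_eq Nat.prime_three (r := 44800) (by norm_num) (by norm_num)) P
    · rw [hc3]; exact (wel_append _ _).symm.trans ((wel_eq h5).trans (wel_append _ _))
    · rw [hc3]; exact (wel_append _ _).symm.trans ((wel_eq h6).trans (wel_append _ _))
    · rw [hr, ← wel_append, ← wel_append, wel_eq h8, hinv hx, wel_rep]
    · refine Or.inr ⟨fun hc1 => ?_, by rw [hr, ← wel_append, ← wel_append, wel_eq h9, hinv hy, wel_rep]⟩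
      rw [hc3, ← wel_nil] at hc1
      rw [key_of_eq (show wJ c3 = wJ [] by rw [wJ, wJ, hc1])] at h4
      exact Bool.noConfusion h4
    · rw [hc3, ← wel_rep, wel_eq h3, wel_nil]
    · intro u w huw
      simp only [hc3, ← wel_rep, ← wel_append] at huw
      by_contra hne
      have key' : ∀ (u w : Fin 3 × Fin 3 × Fin 3),
          wel (Checks.rep x3 u.1 ++ Checks.rep y3 u.2.1 ++ Checks.rep c3 u.2.2) = wel (Checks.rep x3 w.1 ++ Checks.rep y3 w.2.1 ++ Checks.rep c3 w.2.2) →
          ¬ w.1.1 * 9 + w.2.1.1 * 3 + w.2.2.1 < u.1.1 * 9 + u.2.1.1 * 3 + u.2.2.1 := by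
        intro u w e hlt
        have b1 := u.1.2
        have b2 := u.2.1.2
        have b3 := u.2.2.2
        have b4 := w.1.2
        have b5 := w.2.1.2
        have b6 := w.2.2.2
        have h := h10 (u.1.1 * 9 + u.2.1.1 * 3 + u.2.2.1) (by omega)
          (w.1.1 * 9 + w.2.1.1 * 3 + w.2.2.1) hlt
        rw [show (u.1.1 * 9 + u.2.1.1 * 3 + u.2.2.1) / 9 = u.1.1 by omega,
          show (u.1.1 * 9 + u.2.1.1 * 3 + u.2.2.1) / 3 % 3 = u.2.1.1 by omega,
          show (u.1.1 * 9 + u.2.1.1 * 3 + u.2.2.1) % 3 = u.2.2.1 by omega,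
          show (w.1.1 * 9 + w.2.1.1 * 3 + w.2.2.1) / 9 = w.1.1 by omega,
          show (w.1.1 * 9 + w.2.1.1 * 3 + w.2.2.1) / 3 % 3 = w.2.1.1 by omega,
          show (w.1.1 * 9 + w.2.1.1 * 3 + w.2.2.1) % 3 = w.2.2.1 by omega,
          key_of_eq (congrArg (QuotientGroup.mk' (Subgroup.center twoJ2)) e)] at h
        exact Bool.noConfusion h
      rcases lt_trichotomy (w.1.1 * 9 + w.2.1.1 * 3 + w.2.2.1) (u.1.1 * 9 + u.2.1.1 * 3 + u.2.2.1) with h | h | h
      · exact key' u w huw h
      · have := u.2.1.2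
        have := u.2.2.2
        have := w.2.1.2
        have := w.2.2.2
        exact hne (Prod.ext (Fin.ext (by omega)) (Prod.ext (Fin.ext (by omega)) (Fin.ext (by omega))))
      · exact key' w u huw.symm h
  · have h := fiveOk_eq
    simp only [fiveOk, Bool.and_eq_true, List.all_eq_true, List.mem_range, Bool.not_eq_true'] at h
    obtain ⟨⟨⟨⟨⟨⟨h1, h2'⟩, h3⟩, h4⟩, h5⟩, h6⟩, h7⟩ := h
    have hr : (wel r5w)⁻¹ = wel r5w :=
      inv_eq_of_mul_eq_one_right (by rw [← wel_append, wel_eq h4, wel_nil])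
    refine rank_two_criterion (x := wel x5) (y := wel y5) (r := wel r5w) hc hσ
      (by rw [← wel_rep, wel_eq h1, wel_nil]) (by rw [← wel_rep, wel_eq h2', wel_nil])
      ((wel_append _ _).symm.trans ((wel_eq h3).trans (wel_append _ _)))
      (a := 1) (b := 4) (by rw [hr, ← wel_append, ← wel_append, wel_eq h5, pow_one])
      (by rw [hr, ← wel_append, ← wel_append, wel_eq h6, wel_rep]) (by norm_num) ?_
      (by rw [card_twoJ2]; exact fact_of_eq (by norm_num) (r := 48384) (by norm_num) (by norm_num)) P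
    intro u w huw
    simp only [← wel_rep, ← wel_append] at huw
    by_contra hne
    have key' : ∀ (u w : Fin 5 × Fin 5),
        wel (Checks.rep x5 u.1 ++ Checks.rep y5 u.2) = wel (Checks.rep x5 w.1 ++ Checks.rep y5 w.2) →
        ¬ w.1.1 * 5 + w.2.1 < u.1.1 * 5 + u.2.1 := by
      intro u w e hlt
      have b1 := u.1.2
      have b2 := u.2.2
      have b3 := w.1.2
      have b4 := w.2.2
      have h := h7 (u.1.1 * 5 + u.2.1) (by omega) (w.1.1 * 5 + w.2.1) hlt
      rw [show (u.1.1 * 5 + u.2.1) / 5 = u.1.1 by omega, show (u.1.1 * 5 + u.2.1) % 5 = u.2.1 by omega,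
        show (w.1.1 * 5 + w.2.1) / 5 = w.1.1 by omega, show (w.1.1 * 5 + w.2.1) % 5 = w.2.1 by omega,
        key_of_eq (congrArg (QuotientGroup.mk' (Subgroup.center twoJ2)) e)] at h
      exact Bool.noConfusion h
    rcases lt_trichotomy (w.1.1 * 5 + w.2.1) (u.1.1 * 5 + u.2.1) with h | h | h
    · exact key' u w huw h
    · have := u.2.2
      have := w.2.2
      exact hne (Prod.ext (Fin.ext (by omega)) (Fin.ext (by omega)))
    · exact key' w u huw.symm h
  · refine cyclic_criterion hc hσ ?_ P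
    rw [card_twoJ2]; norm_num

/-- The multiplier of `J2`. -/
theorem multiplier_J2 : Cfsg.HasCyclicSchurMultiplier J2 2 := by
  haveI := finite_twoJ2
  haveI := finite_J2
  set θ := QuotientGroup.mk' (Subgroup.center twoJ2)
  have hker : θ.ker = Subgroup.center twoJ2 := QuotientGroup.ker_mk' _
  have hneg : negI ∈ commutator twoJ2 := by
    have hc := wel_eq comm_ok
    simp only [wel_append] at hc
    have : negI = ⁅wel commA, wel commB⁆ := by
      show wel negWord = _
      rw [commutatorElement_def, hc]; group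
    rw [this]
    exact Subgroup.commutator_mem_commutator (Subgroup.mem_top _) (Subgroup.mem_top _)
  have hstem : Cfsg.IsStemExtension θ := by
    refine ⟨QuotientGroup.mk'_surjective _, hker.le, fun z hz => ?_⟩
    rw [hker] at hz
    rcases center_cases hz with rfl | rfl
    · exact one_mem _
    · exact hneg
  haveI : IsCyclic θ.ker := isCyclic_of_prime_card (p := 2) (by rw [hker, card_center])
  exact SimpleFacts.SchurFromCover.hasCyclic_of_cover θ hstem multiplier_twoJ2 2 (by rw [hker, card_center])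

end Cfsg.Agent.J2Mult.Main
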